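import Cfsg.Agent.Lib.CyclicSylowInter.Socle
import Cfsg.Agent.S0205

/-!
Transport of the lists along isomorphisms, and the points (Sylow 2-subgroups) of a normal subgroup
as a set with an action of the whole group.
-/

set_option autoImplicit false
set_option linter.style.haveILetI false
set_option linter.unusedSectionVars false

namespace Cfsg.Agent.CyclicSylowInter

open Subgroup
open scoped Pointwise
open Cfsg.Agent.ZStar.CyclicIntersections

universe u

theorem KindTI.congr {A B : Type u} [Group A] [Group B] (e : A ≃* B) (h : KindTI A) : KindTI B := by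
  rcases h with ⟨n, F, iF, jF, h1, h2, ⟨φ⟩⟩ | ⟨m, F, iF, jF, h1, h2, ⟨φ⟩⟩ | ⟨n, F, iF, jF, h1, h2, ⟨φ⟩⟩
  · exact Or.inl ⟨n, F, iF, jF, h1, h2, ⟨e.symm.trans φ⟩⟩
  · exact Or.inr (Or.inl ⟨m, F, iF, jF, h1, h2, ⟨e.symm.trans φ⟩⟩)
  · exact Or.inr (Or.inr ⟨n, F, iF, jF, h1, h2, ⟨e.symm.trans φ⟩⟩)

theorem isSimpleGroup_congr {A B : Type*} [Group A] [Group B] (e : A ≃* B) [IsSimpleGroup A] :
    IsSimpleGroup B := by
  haveI : Nontrivial B := e.symm.toEquiv.nontrivial
  exact IsSimpleGroup.isSimpleGroup_of_surjective e.toMonoidHom e.surjective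

theorem Five.congr {A B : Type u} [Group A] [Group B] (e : A ≃* B) (h : Five A) : Five B := by
  rcases h with h | h | h | ⟨F, iF, jF, h1, h2, ⟨φ⟩⟩ | ⟨hs, hc⟩
  · exact (KindTI.congr e (Or.inl h)).five
  · exact (KindTI.congr e (Or.inr (Or.inl h))).five
  · exact (KindTI.congr e (Or.inr (Or.inr h))).five
  · exact Or.inr (Or.inr (Or.inr (Or.inl ⟨F, iF, jF, h1, h2, ⟨e.symm.trans φ⟩⟩)))
  · haveI := hs
    exact Or.inr (Or.inr (Or.inr (Or.inr ⟨isSimpleGroup_congr e, by
      rw [← Nat.card_congr e.toEquiv]; exact hc⟩)))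

theorem Five.kindTI_or {A : Type u} [Group A] (h : Five A) :
    KindTI A ∨ ((∃ (F : Type) (_ : Field F) (_ : Fintype F),
      (Fintype.card F % 8 = 3 ∨ Fintype.card F % 8 = 5) ∧ 5 < Fintype.card F ∧
      Nonempty (A ≃* Matrix.ProjectiveSpecialLinearGroup (Fin 2) F)) ∨ Cfsg.IsJ1 A) := by
  rcases h with h | h | h | h
  exacts [Or.inl (Or.inl h), Or.inl (Or.inr (Or.inl h)), Or.inl (Or.inr (Or.inr h)), Or.inr h]

variable {Q : Type u} [Group Q] [Finite Q] (L : Subgroup Q) [L.Normal]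

/-- The Sylow 2-subgroups of a normal subgroup, as points moved by the whole group. -/
abbrev Pt := Sylow 2 ↥L

/-- The action of an element of the whole group on the points. -/
noncomputable def act (g : Q) (T : Sylow 2 ↥L) : Sylow 2 ↥L :=
  T.mapSurjective (f := (MulAut.conjNormal g : ↥L ≃* ↥L).toMonoidHom) (MulEquiv.surjective _)

theorem mem_act {g : Q} {T : Sylow 2 ↥L} {l : ↥L} :
    l ∈ (act L g T : Subgroup ↥L) ↔ ∃ k ∈ (T : Subgroup ↥L), g * (k : Q) * g⁻¹ = (l : Q) := by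
  constructor
  · rintro ⟨k, hk, rfl⟩
    exact ⟨k, hk, (MulAut.conjNormal_apply g k).symm⟩
  · rintro ⟨k, hk, e⟩
    exact ⟨k, hk, Subtype.ext ((MulAut.conjNormal_apply g k).trans e)⟩

theorem conj_mem_act (g : Q) {T : Sylow 2 ↥L} {k : ↥L} (hk : k ∈ (T : Subgroup ↥L)) :
    MulAut.conjNormal g k ∈ (act L g T : Subgroup ↥L) := ⟨k, hk, rfl⟩

theorem act_act (g h : Q) (T : Sylow 2 ↥L) : act L g (act L h T) = act L (g * h) T := by
  refine Sylow.ext (Subgroup.ext fun l => ?_)
  rw [mem_act, mem_act]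
  constructor
  · rintro ⟨k, hk, e⟩
    obtain ⟨j, hj, e'⟩ := (mem_act L).1 hk
    exact ⟨j, hj, by rw [← e, ← e']; group⟩
  · rintro ⟨j, hj, e⟩
    refine ⟨MulAut.conjNormal h j, conj_mem_act L h hj, ?_⟩
    rw [MulAut.conjNormal_apply, ← e]; group

theorem act_one (T : Sylow 2 ↥L) : act L 1 T = T := by
  refine Sylow.ext (Subgroup.ext fun l => ?_)
  rw [mem_act]
  constructor
  · rintro ⟨k, hk, e⟩
    have : k = l := Subtype.ext (by rw [← e]; group)
    exact this ▸ hk
  · exact fun h => ⟨l, h, by group⟩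

theorem act_coe (l : ↥L) (T : Sylow 2 ↥L) : act L (l : Q) T = l • T := by
  refine Sylow.ext (Subgroup.ext fun m => ?_)
  rw [mem_act, mem_smul]
  constructor
  · rintro ⟨k, hk, e⟩
    have : l⁻¹ * m * l = k := Subtype.ext (by push_cast; rw [← e]; group)
    exact this ▸ hk
  · exact fun h => ⟨_, h, by push_cast; group⟩

theorem act_inj {g : Q} {T U : Sylow 2 ↥L} (h : act L g T = act L g U) : T = U := by
  have h2 := congrArg (act L g⁻¹) h
  rwa [act_act, act_act, inv_mul_cancel, act_one, act_one] at h2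

theorem act_eq_comm {g : Q} (hg : g * g = 1) {T U : Sylow 2 ↥L} (h : act L g T = U) :
    act L g U = T := by
  rw [← h, act_act, hg, act_one]

end Cfsg.Agent.CyclicSylowInter
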