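import Cfsg.Agent.Lib.CyclicSylowInter.KindFacts.PSLTwo
import Cfsg.Agent.Lib.CyclicSylowInter.KindFacts.Suzuki
import Cfsg.Agent.Lib.CyclicSylowInter.KindFacts.Unitary
import Cfsg.Agent.Lib.CyclicSylowInter.KindFacts.Others

/-!
# The facts on the families
-/

set_option autoImplicit false
set_option linter.style.haveILetI false

namespace Cfsg.Agent.CyclicSylowInter

universe u

theorem kindTI_facts {L : Type u} [Group L] [Finite L] (h : KindTI L) :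
    TISylow L ∧ OneClass L ∧ ∀ S : Sylow 2 L, ∃ n i, TIData S n i := by
  rcases h with ⟨n, F, iF, jF, hn, hF, ⟨f⟩⟩ | ⟨m, F, iF, jF, hm, hF, ⟨f⟩⟩ |
    ⟨n, F, iF, jF, hn, hF, ⟨f⟩⟩
  · haveI : Fact (Nat.Prime 2) := ⟨Nat.prime_two⟩
    haveI : CharP F 2 := charP_of_card_eq_prime_pow hF
    obtain ⟨S₀, hS⟩ := KindFactsPSLTwo.exists_model (F := F) (CharTwo.two_eq_zero) hn hF
    obtain ⟨h1, h2, h3⟩ := facts_of_model hS f
    exact ⟨h1, h2, fun S => ⟨n, 1, h3 S⟩⟩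
  · haveI := Suzuki.charTwo hF
    obtain ⟨e⟩ := Suzuki.lieEquiv hm hF
    obtain ⟨S₀, hS⟩ := KindFactsSuzuki.exists_model hm hF
    obtain ⟨h1, h2, h3⟩ := facts_of_model hS (f.trans e.symm)
    exact ⟨h1, h2, fun S => ⟨2 * m + 1, 2, h3 S⟩⟩
  · haveI : Fact (Nat.Prime 2) := ⟨Nat.prime_two⟩
    have hF2 : Fintype.card F = (2 ^ n) ^ 2 := by
      rw [hF, show 4 = 2 ^ 2 by norm_num, ← pow_mul, ← pow_mul, mul_comm]
    haveI : CharP F 2 := charP_of_card_eq_prime_pow (f := n * 2) (by rw [hF2, pow_mul])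
    obtain ⟨S₀, hS⟩ := KindFactsUnitary.exists_model hF2 hn
    obtain ⟨h1, h2, h3⟩ := facts_of_model hS f
    exact ⟨h1, h2, fun S => ⟨n, 3, h3 S⟩⟩

/-- The facts used by the theorem on cyclic Sylow intersections. -/
theorem kind_facts : KindFacts.{u} := by
  refine ⟨fun L _ _ h => kindTI_facts h, fun L _ _ h => ?_⟩
  rcases h with h | h | h | ⟨F, iF, jF, hmod, -, ⟨f⟩⟩ | h
  · obtain ⟨h1, h2, -⟩ := kindTI_facts (L := L) (Or.inl h)
    exact ⟨h2, fun hn => absurd h1 hn⟩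
  · obtain ⟨h1, h2, -⟩ := kindTI_facts (L := L) (Or.inr (Or.inl h))
    exact ⟨h2, fun hn => absurd h1 hn⟩
  · obtain ⟨h1, h2, -⟩ := kindTI_facts (L := L) (Or.inr (Or.inr h))
    exact ⟨h2, fun hn => absurd h1 hn⟩
  · obtain ⟨h1, h2⟩ := KindFactsOthers.psl_facts hmod f
    exact ⟨h1, fun _ => h2⟩
  · obtain ⟨h1, h2⟩ := KindFactsOthers.j1_facts h
    exact ⟨h1, fun _ => h2⟩

end Cfsg.Agent.CyclicSylowInter
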