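import Cfsg.Agent.Lib.CyclicSylowInter.Tools
import Cfsg.Agent.Lib.GW.ZFactTransfer

/-!
# The socle of a reduced group

Two commuting normal subgroups cannot both be nonsolvable, so a reduced group has a simple socle
with trivial centraliser.
-/

set_option autoImplicit false
set_option linter.style.haveILetI false
set_option linter.unusedSectionVars false

namespace Cfsg.Agent.CyclicSylowInter

open Subgroup
open scoped Pointwise
open Cfsg.Agent.ZStar.CyclicIntersections

universe u

variable {G : Type u} [Group G] [Finite G]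

/-- The trace of a Sylow 2-subgroup on a normal subgroup. -/
noncomputable def sylowIn (S : Sylow 2 G) (N : Subgroup G) [N.Normal] : Sylow 2 ↥N :=
  haveI := Fact.mk Nat.prime_two
  IsPGroup.toSylow (S.isPGroup'.comap_subtype (K := N)) fun h =>
    S.not_dvd_index (h.trans (Agent.Cores.relIndex_dvd_index_right_normal (S : Subgroup G) N))

theorem coe_sylowIn (S : Sylow 2 G) (N : Subgroup G) [N.Normal] :
    (sylowIn S N : Subgroup ↥N) = (S : Subgroup G).subgroupOf N := rfl

/-- Of two commuting normal subgroups one is solvable. -/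
theorem solvable_of_commuting (hC : CycInt G) (A B : Subgroup G) [hA : A.Normal] [hB : B.Normal]
    (hc : ∀ a ∈ A, ∀ b ∈ B, Commute a b) (hns : ¬ Group.IsSolvable ↥A) : Group.IsSolvable ↥B := by
  haveI := Fact.mk Nat.prime_two
  let S : Sylow 2 G := default
  let SB := sylowIn S B
  obtain ⟨a, ha, hne⟩ : ∃ a ∈ A, a • S ≠ S := by
    by_contra! h
    let SA := sylowIn S A
    refine hns ?_
    haveI : (SA : Subgroup ↥A).Normal := by
      refine ⟨fun x hx c => ?_⟩
      rw [coe_sylowIn, mem_subgroupOf] at hx ⊢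
      exact (mem_normalizer_iff.mp (Sylow.smul_eq_iff_mem_normalizer.mp (h c c.2)) _).1 hx
    refine isSolvable_ext (SA : Subgroup ↥A) (isSolvable_isPGroup SA.isPGroup') (S0205.result ?_)
    rw [← index_eq_card, Nat.odd_iff, ← Nat.two_dvd_ne_zero]
    exact SA.not_dvd_index
  haveI := hC S (a • S) hne.symm
  haveI : IsCyclic ↥((S : Subgroup G) ⊓ B) := by
    have hle : (S : Subgroup G) ⊓ B ≤ (S : Subgroup G) ⊓ (a • S : Sylow 2 G) := by
      intro x hx
      have h := conj_mem_smul a hx.1
      rw [(hc a ha x hx.2).eq, mul_inv_cancel_right] at h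
      exact ⟨hx.1, h⟩
    exact isCyclic_of_le hle
  refine GW.ZFact.isSolvable_of_cyclic_sylow SB ?_
  let f : ↥(SB : Subgroup ↥B) →* ↥((S : Subgroup G) ⊓ B) :=
    (B.subtype.comp (Subgroup.subtype _)).codRestrict _ fun x => ⟨x.2, (x : ↥B).2⟩
  exact isCyclic_of_injective f fun x y h =>
    Subtype.ext (Subtype.ext (congrArg Subtype.val h :))

/-- A reduced group has a nonabelian simple normal subgroup with trivial centraliser. -/
theorem exists_socle (hG : Reduced G) : ∃ L : Subgroup G, L.Normal ∧ IsSimpleGroup ↥L ∧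
    ¬ IsMulCommutative ↥L ∧ (∀ g : G, (∀ l ∈ L, Commute g l) → g = 1) := by
  classical
  obtain ⟨L, hL, hmin⟩ : ∃ L : Subgroup G, (L.Normal ∧ L ≠ ⊥) ∧
      ∀ M : Subgroup G, M.Normal ∧ M ≠ ⊥ → M ≤ L → M = L := by
    haveI : Nontrivial G := by
      by_contra h
      rw [not_nontrivial_iff_subsingleton] at h
      exact hG.nonsolvable (Group.isSolvable_of_comm fun a b => Subsingleton.elim _ _)
    obtain ⟨L, hLm, hmin⟩ := Set.Finite.exists_minimal
      (Set.toFinite {M : Subgroup G | M.Normal ∧ M ≠ ⊥}) ⟨⊤, inferInstance, top_ne_bot⟩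
    exact ⟨L, hLm, fun M hM hle => le_antisymm hle (hmin hM hle)⟩
  haveI := hL.1
  have hLns : ¬ Group.IsSolvable ↥L := fun h => hL.2 (hG.noSolv L hL.1 h)
  have hcent : ∀ g : G, (∀ l ∈ L, Commute g l) → g = 1 := by
    intro g hg
    haveI : (centralizer (L : Set G)).Normal := inferInstance
    have hs : Group.IsSolvable ↥(centralizer (L : Set G)) :=
      solvable_of_commuting hG.cycInt L _ (fun a ha b hb => mem_centralizer_iff.1 hb a ha) hLns
    have hgC : g ∈ centralizer (L : Set G) := mem_centralizer_iff.2 fun l hl => (hg l hl).eq.symm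
    rwa [hG.noSolv _ inferInstance hs, mem_bot] at hgC
  -- solvable normal subgroups of `L` are trivial
  have hnoSolv : ∀ N : Subgroup ↥L, N.Normal → Group.IsSolvable ↥N → N = ⊥ := by
    intro N hN hs
    haveI := hN
    have hCL := hG.cycInt.subgroup L
    have hkill : ∀ U : Subgroup ↥L, U.Characteristic → Group.IsSolvable ↥U → U = ⊥ := by
      intro U hU hUs
      haveI := hU
      refine (Subgroup.map_eq_bot_iff_of_injective _ L.subtype_injective).1 ?_
      exact hG.noSolv _ (Agent.Cores.normal_map_subtype L U) (Coprime.isSolvable_map _ hUs)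
    have h0 : Cfsg.oddCore ↥L = ⊥ :=
      hkill _ (Agent.Cores.pPrimeCore_characteristic 2) isSolvable_oddCore
    have h1 : N ≤ Cfsg.pCore 2 ↥L := le_pCore_of_solvable hCL hLns h0 N hs
    rw [hkill _ (Agent.Cores.pCore_characteristic 2)
      (isSolvable_isPGroup (Agent.Cores.pCore_isPGroup 2))] at h1
    exact le_bot_iff.1 h1
  refine ⟨L, hL.1, ?_, fun h => hLns (Group.isSolvable_of_comm fun a b => h.is_comm.comm a b), hcent⟩
  haveI : Nontrivial ↥L := (nontrivial_iff_ne_bot L).2 hL.2
  have key : ∀ K : Subgroup ↥L, K.Normal → K ≠ ⊥ →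
      (∀ M : Subgroup ↥L, M.Normal → M ≠ ⊥ → M ≤ K → M = K) → K = ⊤ := by
    intro K hK hKbot hKmin
    haveI := hK
    have hKns : ¬ Group.IsSolvable ↥K := fun h => hKbot (hnoSolv K hK h)
    suffices hn : (K.map L.subtype).Normal by
      have hne : K.map L.subtype ≠ ⊥ := fun h =>
        hKbot ((Subgroup.map_eq_bot_iff_of_injective _ L.subtype_injective).1 h)
      refine Subgroup.map_injective L.subtype_injective ?_
      rw [hmin _ ⟨hn, hne⟩ (map_subtype_le K), ← MonoidHom.range_eq_map, range_subtype]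
    refine ⟨fun x hx g => ?_⟩
    obtain ⟨k, hk, rfl⟩ := hx
    let φ : MulAut ↥L := MulAut.conjNormal g
    haveI hK' : (K.map φ.toMonoidHom).Normal := hK.map _ φ.surjective
    have hKK : K ⊓ K.map φ.toMonoidHom = K := by
      refine hKmin _ inferInstance (fun hbot => ?_) inf_le_left
      have hs : Group.IsSolvable ↥(K.map φ.toMonoidHom) :=
        solvable_of_commuting (hG.cycInt.subgroup L) K _
          (fun a ha b hb => Subgroup.commute_of_normal_of_disjoint _ _ hK hK'
            (disjoint_iff.2 hbot) a b ha hb) hKns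
      haveI := hs
      exact hKns (Group.isSolvable_of_surjective
        (f := (K.equivMapOfInjective φ.toMonoidHom φ.injective).symm.toMonoidHom)
        (MulEquiv.surjective _))
    have heq : K = K.map φ.toMonoidHom := Subgroup.eq_of_le_of_card_ge (inf_eq_left.1 hKK)
      (le_of_eq (Subgroup.card_map_of_injective φ.injective))
    refine ⟨φ k, heq ▸ mem_map_of_mem φ.toMonoidHom hk, ?_⟩
    exact MulAut.conjNormal_apply g k
  refine ⟨fun N hN => ?_⟩
  by_cases hNbot : N = ⊥
  · exact Or.inl hNbot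
  obtain ⟨K, ⟨hKn, hKne, hKN⟩, hKmin⟩ := Set.Finite.exists_minimal
    (Set.toFinite {M : Subgroup ↥L | M.Normal ∧ M ≠ ⊥ ∧ M ≤ N}) ⟨N, hN, hNbot, le_rfl⟩
  refine Or.inr (top_le_iff.1 (le_of_eq_of_le ?_ hKN))
  exact (key K hKn hKne fun M hM hMne hle => le_antisymm hle
    (hKmin ⟨hM, hMne, hle.trans hKN⟩ hle)).symm

end Cfsg.Agent.CyclicSylowInter
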