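import Cfsg.Agent.Lib.CyclicSylowInter.Outer.False

/-!
# The reduction to simple groups

A reduced group is an odd extension of its socle, which is on the list as soon as the simple groups
of smaller or equal order are.
-/

set_option autoImplicit false
set_option linter.style.haveILetI false
set_option linter.unusedSectionVars false

namespace Cfsg.Agent.CyclicSylowInter

open Subgroup
open scoped Pointwise
open Cfsg.Agent.ZStar.CyclicIntersections

universe u

variable {Q : Type u} [Group Q] [Finite Q]

/-- The socle of a reduced group has odd index. -/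
theorem odd_index_socle (hF : KindFacts.{u}) (hT : TITheorem.{u}) (hQ : Reduced Q) (L : Subgroup Q)
    [hL : L.Normal] [hs : IsSimpleGroup ↥L] (hne : ¬ IsMulCommutative ↥L) (h5 : Five ↥L) :
    Odd L.index := by
  haveI := Fact.mk Nat.prime_two
  have hLns : ¬ Group.IsSolvable ↥L := (reduced_of_simple hne (hQ.cycInt.subgroup L)).nonsolvable
  have hcent : ∀ g : Q, (∀ l ∈ L, Commute g l) → g = 1 := by
    intro g hg
    have hC : Group.IsSolvable ↥(centralizer (L : Set Q)) :=
      solvable_of_commuting hQ.cycInt L _ (fun a ha b hb => mem_centralizer_iff.1 hb a ha) hLns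
    have hgC : g ∈ centralizer (L : Set Q) := mem_centralizer_iff.2 fun l hl => (hg l hl).eq.symm
    rwa [hQ.noSolv _ inferInstance hC, mem_bot] at hgC
  let S : Sylow 2 Q := default
  set M := L ⊔ (S : Subgroup Q) with hM
  let L' := L.subgroupOf M
  have hLM : L ≤ M := le_sup_left
  let e : ↥L' ≃* ↥L := subgroupOfEquivOfLe hLM
  haveI : IsSimpleGroup ↥L' := isSimpleGroup_congr e.symm
  have hne' : ¬ IsMulCommutative ↥L' := fun h => hne ⟨⟨fun a b => e.symm.injective (by
    rw [map_mul, map_mul]; exact h.is_comm.comm _ _)⟩⟩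
  have hns' : ¬ Group.IsSolvable ↥L' := fun h => hLns (by
    haveI := h
    exact Group.isSolvable_of_surjective (f := e.toMonoidHom) e.surjective)
  have hMred : Reduced ↥M := by
    refine ⟨fun h => hns' (by haveI := h; infer_instance), hQ.cycInt.subgroup M, fun N hN hNs => ?_⟩
    haveI := hN
    have hdisj : L' ⊓ N = ⊥ := by
      haveI : (N.subgroupOf L').Normal := inferInstance
      rcases (inferInstance : (N.subgroupOf L').Normal).eq_bot_or_eq_top with h | h
      · rw [inf_comm, ← disjoint_iff]; exact subgroupOf_eq_bot.1 h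
      · haveI := hNs
        exact absurd (Group.isSolvable_of_isSolvable_injective
          (f := Subgroup.inclusion (subgroupOf_eq_top.1 h)) (inclusion_injective _)) hns'
    refine (Subgroup.eq_bot_iff_forall N).2 fun y hy => Subtype.ext ?_
    refine hcent _ fun l hl => ?_
    exact congrArg Subtype.val (Subgroup.commute_of_normal_of_disjoint L' N inferInstance hN
      (disjoint_iff.2 hdisj) ⟨l, hLM hl⟩ y hl hy).symm.eq
  have hle := sylow_le_socle hF hT hMred hne' (Five.congr e.symm h5)
    (S.subtype (le_sup_right : (S : Subgroup Q) ≤ M)) (by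
      rw [Sylow.coe_subtype, ← subgroupOf_sup hLM le_sup_right]
      exact subgroupOf_self M)
  have hSL : (S : Subgroup Q) ≤ L := fun s hs => hle (x := ⟨s, (le_sup_right : (S : Subgroup Q) ≤ M) hs⟩) hs
  rw [Nat.odd_iff, ← Nat.two_dvd_ne_zero]
  exact fun h => S.not_dvd_index (h.trans (index_dvd_of_le hSL))

/-- The theorem for a group follows from the list for simple groups of at most its order. -/
theorem goal_of_below (hF : KindFacts.{u}) (hT : TITheorem.{u}) {G : Type u} [Group G] [Finite G]
    (hb : SimpleBelow.{u} (Nat.card G + 1)) (hns : ¬ Group.IsSolvable G) (hC : CycInt G)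
    (R : Subgroup G) [R.Normal] (hR : Group.IsSolvable ↥R)
    (hRmax : ∀ N : Subgroup G, N.Normal → Group.IsSolvable ↥N → N ≤ R) : Goal G R := by
  have hQ := reduced_quotient hns hC R hR hRmax
  obtain ⟨L, hL, hs, hne, -⟩ := exists_socle hQ
  haveI := hs
  have h5 : Five ↥L := hb ↥L (Nat.lt_succ_of_le (L.card_le_card_group.trans
    (Nat.card_le_card_of_surjective _ (QuotientGroup.mk'_surjective R)))) hne (hQ.cycInt.subgroup L)
  have hodd := odd_index_socle hF hT hQ L hne h5
  let G₁ := L.comap (QuotientGroup.mk' R)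
  have hRG : R ≤ G₁ := fun r hr => by
    show QuotientGroup.mk' R r ∈ L
    rw [show QuotientGroup.mk' R r = 1 from (QuotientGroup.eq_one_iff r).2 hr]
    exact one_mem L
  let f : ↥G₁ →* ↥L := (QuotientGroup.mk' R).subgroupComap L
  have hf : Function.Surjective f := fun l => by
    obtain ⟨g, hg⟩ := QuotientGroup.mk'_surjective R (l : G ⧸ R)
    exact ⟨⟨g, show QuotientGroup.mk' R g ∈ L by rw [hg]; exact l.2⟩, Subtype.ext hg⟩
  have hker : f.ker = R.subgroupOf G₁ := by
    ext g
    rw [MonoidHom.mem_ker, mem_subgroupOf]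
    exact ⟨fun h => (QuotientGroup.eq_one_iff _).1 (congrArg Subtype.val h),
      fun h => Subtype.ext ((QuotientGroup.eq_one_iff _).2 h)⟩
  let e : ↥G₁ ⧸ R.subgroupOf G₁ ≃* ↥L :=
    (QuotientGroup.quotientMulEquivOfEq hker.symm).trans
      (QuotientGroup.quotientKerEquivOfSurjective f hf)
  refine ⟨G₁, hL.comap _, inferInstance, ?_, hRG, isSimpleGroup_congr e.symm,
    fun h => hne ⟨⟨fun a b => e.symm.injective (by rw [map_mul, map_mul]; exact h.is_comm.comm _ _)⟩⟩,
    Five.congr e.symm h5⟩
  rwa [index_comap_of_surjective L (QuotientGroup.mk'_surjective R)]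

end Cfsg.Agent.CyclicSylowInter
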