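import Cfsg.Agent.Lib.CyclicSylowInter.Defs

/-!
# The simple case: standing hypotheses, centralisers with a component, and the branches

`Comp S t` is the structure of the centraliser of an involution `t` of `S` whose centraliser is
nonsolvable: modulo its cyclic central 2-part and odd core it is an odd extension of a group of the
three families, with the trace of `S` as Sylow subgroup.
-/

set_option autoImplicit false

namespace Cfsg.Agent.CyclicSylowInter

open Subgroup
open Cfsg.Agent.ZStar.CyclicIntersections

universe u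

/-- The standing hypotheses on a simple group. -/
structure SimpleHyp (G : Type u) [Group G] [Finite G] : Prop where
  simple : IsSimpleGroup G
  noncomm : ¬ IsMulCommutative G
  reduced : Reduced G
  facts : KindFacts.{u}
  below : SimpleBelow.{u} (Nat.card G)
  rank : ¬ Cfsg.PRankLE 2 2 G

variable {G : Type u} [Group G] [Finite G]

/-- The involutions of the centre of `S`, with the identity. -/
def centInv (S : Sylow 2 G) : Subgroup G where
  carrier := {x | x ∈ (S : Subgroup G) ∧ x * x = 1 ∧ ∀ s ∈ (S : Subgroup G), Commute x s}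
  one_mem' := ⟨one_mem _, one_mul 1, fun s _ => Commute.one_left s⟩
  mul_mem' := by
    rintro a b ⟨ha, ha2, hac⟩ ⟨hb, hb2, hbc⟩
    refine ⟨mul_mem ha hb, ?_, fun s hs => (hac s hs).mul_left (hbc s hs)⟩
    rw [(show Commute b a from hbc a ha).mul_mul_mul_comm, ha2, hb2, one_mul]
  inv_mem' := by
    rintro a ⟨ha, ha2, hac⟩
    exact ⟨inv_mem ha, by rw [← _root_.mul_inv_rev, ha2, inv_one], fun s hs => (hac s hs).inv_left⟩

/-- The centraliser of `t` as a subgroup. -/
abbrev cen (t : G) : Subgroup G := centralizer ({t} : Set G)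

/-- The structure of a nonsolvable centraliser of an involution `t` of `S`. -/
structure Comp (S : Sylow 2 G) (t : G) where
  ht : orderOf t = 2
  htS : t ∈ (S : Subgroup G)
  /-- the centraliser is nonsolvable -/
  nonsolvable : ¬ Group.IsSolvable ↥(cen t)
  /-- the reduced quotient -/
  Q : Type u
  [grp : Group Q]
  [fin : Finite Q]
  /-- the projection -/
  π : ↥(cen t) →* Q
  surj : Function.Surjective π
  mem_ker_self : ∀ h : t ∈ cen t, π ⟨t, h⟩ = 1
  /-- the trace of `S` is the only Sylow subgroup of `cen t` in `S` -/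
  sylow : ∃ P : Sylow 2 ↥(cen t), (P : Subgroup ↥(cen t)) = (S : Subgroup G).subgroupOf (cen t)
  core_comm : ∀ o ∈ Cfsg.oddCore ↥(cen t), ∀ p : ↥(cen t), (p : G) ∈ (S : Subgroup G) → Commute o p
  core_le : Cfsg.oddCore ↥(cen t) ≤ π.ker
  ker_cyclic : IsCyclic ↥((S : Subgroup G).subgroupOf (cen t) ⊓ π.ker)
  ker_central : ∀ v ∈ π.ker, (v : G) ∈ (S : Subgroup G) → ∀ p : ↥(cen t), (p : G) ∈ (S : Subgroup G) →
    Commute v p
  ker_mem : ∀ c ∈ π.ker, ∃ v ∈ π.ker, (v : G) ∈ (S : Subgroup G) ∧ ∃ o ∈ Cfsg.oddCore ↥(cen t), c = v * o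
  /-- the simple normal subgroup -/
  L : Subgroup Q
  normal : L.Normal
  odd_index : Odd L.index
  kind : KindTI ↥L
  ti : TISylow ↥L
  /-- its Sylow subgroup -/
  SL : Sylow 2 ↥L
  map_eq : ((S : Subgroup G).subgroupOf (cen t)).map π = (SL : Subgroup ↥L).map L.subtype
  n : ℕ
  i : ℕ
  data : TIData SL n i

/-- Every involution with nonsolvable centraliser has the structure. -/
def CompExists : Prop :=
  ∀ (G : Type u) [Group G] [Finite G], SimpleHyp G → ∀ (S : Sylow 2 G) (t : G),
    orderOf t = 2 → t ∈ (S : Subgroup G) → ¬ Group.IsSolvable ↥(cen t) → Nonempty (Comp S t)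

/-- The branch of a central involution: the first Janko group. -/
def CentralBranch : Prop :=
  ∀ (G : Type u) [Group G] [Finite G], SimpleHyp G → ∀ (S : Sylow 2 G) (t : G), Comp S t →
    (∀ s ∈ (S : Subgroup G), Commute t s) → Cfsg.IsJ1 G

/-- The branch of a noncentral involution is empty, given that central involutions have solvable
centralisers and every involution with nonsolvable centraliser is noncentral with the structure. -/
def NoncentralBranch : Prop :=
  ∀ (G : Type u) [Group G] [Finite G], SimpleHyp G →
    (∀ (S : Sylow 2 G) (z : G), orderOf z = 2 → z ∈ (S : Subgroup G) →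
      (∀ s ∈ (S : Subgroup G), Commute z s) → Group.IsSolvable ↥(cen z)) →
    CompExists.{u} → ∀ (S : Sylow 2 G) (t : G), Comp S t → False

end Cfsg.Agent.CyclicSylowInter
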