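import Cfsg.Prelude
import Cfsg.Agent.Lib.ZStar.CyclicIntersections.Central

/-!
# Nonsolvable groups with cyclic Sylow 2-intersections: definitions

The list of simple groups, the facts used about the three families in which an involution lies in a
unique Sylow 2-subgroup, and the two recognition theorems used as inputs.
-/

set_option autoImplicit false

namespace Cfsg.Agent.CyclicSylowInter

open Subgroup
open scoped Pointwise
open Cfsg.Agent.ZStar.CyclicIntersections

universe u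

/-- The three families with strongly embedded subgroups. -/
def KindTI (Q : Type u) [Group Q] : Prop :=
  (∃ (n : ℕ) (F : Type) (_ : Field F) (_ : Fintype F), 2 ≤ n ∧ Fintype.card F = 2 ^ n ∧
      Nonempty (Q ≃* Matrix.ProjectiveSpecialLinearGroup (Fin 2) F)) ∨
  (∃ (m : ℕ) (F : Type) (_ : Field F) (_ : Fintype F), 1 ≤ m ∧ Fintype.card F = 2 ^ (2 * m + 1) ∧
      Nonempty (Q ≃* ↥(Cfsg.Lie.Sz F (2 ^ (m + 1))))) ∨
  (∃ (n : ℕ) (F : Type) (_ : Field F) (_ : Fintype F), 2 ≤ n ∧ Fintype.card F = 4 ^ n ∧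
      Nonempty (Q ≃* Cfsg.PSU 3 F (2 ^ n)))

/-- The list of simple groups in the conclusion. -/
def Five (Q : Type u) [Group Q] : Prop :=
  (∃ (n : ℕ) (F : Type) (_ : Field F) (_ : Fintype F), 2 ≤ n ∧ Fintype.card F = 2 ^ n ∧
      Nonempty (Q ≃* Matrix.ProjectiveSpecialLinearGroup (Fin 2) F)) ∨
  (∃ (m : ℕ) (F : Type) (_ : Field F) (_ : Fintype F), 1 ≤ m ∧ Fintype.card F = 2 ^ (2 * m + 1) ∧
      Nonempty (Q ≃* ↥(Cfsg.Lie.Sz F (2 ^ (m + 1))))) ∨
  (∃ (n : ℕ) (F : Type) (_ : Field F) (_ : Fintype F), 2 ≤ n ∧ Fintype.card F = 4 ^ n ∧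
      Nonempty (Q ≃* Cfsg.PSU 3 F (2 ^ n))) ∨
  (∃ (F : Type) (_ : Field F) (_ : Fintype F),
      (Fintype.card F % 8 = 3 ∨ Fintype.card F % 8 = 5) ∧ 5 < Fintype.card F ∧
      Nonempty (Q ≃* Matrix.ProjectiveSpecialLinearGroup (Fin 2) F)) ∨
  Cfsg.IsJ1 Q

theorem KindTI.five {Q : Type u} [Group Q] (h : KindTI Q) : Five Q := by
  rcases h with h | h | h
  exacts [Or.inl h, Or.inr (Or.inl h), Or.inr (Or.inr (Or.inl h))]

/-- Every involution lies in exactly one Sylow 2-subgroup. -/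
def TISylow (G : Type u) [Group G] : Prop :=
  ∀ (S T : Sylow 2 G) (x : G), orderOf x = 2 → x ∈ (S : Subgroup G) → x ∈ (T : Subgroup G) → S = T

/-- All involutions are conjugate. -/
def OneClass (G : Type u) [Group G] : Prop :=
  ∀ x y : G, orderOf x = 2 → orderOf y = 2 → IsConj x y

/-- The facts used about a simple group in which every involution lies in a unique Sylow
2-subgroup: `q = 2 ^ n`, the Sylow order is `q ^ i`, its involutions are central and permuted
transitively by its normalizer, it is regular on the other Sylow subgroups, central elements square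
to one; an element `τ` of odd order of the normalizer has powers transitive on the involutions, and
for `i = 3` it leaves no proper subgroup over the involutions invariant, some nontrivial power
centralises all involutions, and such powers fix nothing else of the subgroup. -/
structure TIData {L : Type u} [Group L] (S : Sylow 2 L) (n i : ℕ) : Prop where
  two_le : 2 ≤ n
  i_mem : i = 1 ∨ i = 2 ∨ i = 3
  card_sylow : Nat.card ↥(S : Subgroup L) = (2 ^ n) ^ i
  ncard_inv : {x : L | x ∈ (S : Subgroup L) ∧ orderOf x = 2}.ncard = 2 ^ n - 1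
  inv_central : ∀ x ∈ (S : Subgroup L), orderOf x = 2 → ∀ s ∈ (S : Subgroup L), Commute x s
  center_sq : ∀ x ∈ (S : Subgroup L), (∀ s ∈ (S : Subgroup L), Commute x s) → x * x = 1
  trans : ∀ x y : L, x ∈ (S : Subgroup L) → y ∈ (S : Subgroup L) → orderOf x = 2 → orderOf y = 2 →
    ∃ r ∈ normalizer ((S : Subgroup L) : Set L), r * x * r⁻¹ = y
  regular : ∀ T T' : Sylow 2 L, T ≠ S → T' ≠ S → ∃! s : ↥(S : Subgroup L), (s : L) • T = T'
  sq_sq : ∀ x ∈ (S : Subgroup L), x * x * (x * x) = 1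
  suzuki_odd : i = 2 → Odd n
  suzuki_pairing : i = 2 → 4 ≤ n → ∀ B : L → L → ZMod 2,
    (∀ a ∈ (S : Subgroup L), ∀ a' ∈ (S : Subgroup L), ∀ w ∈ (S : Subgroup L), w * w = 1 →
      B (a * a') w = B a w + B a' w) →
    (∀ a ∈ (S : Subgroup L), ∀ w ∈ (S : Subgroup L), ∀ w' ∈ (S : Subgroup L), w * w = 1 →
      w' * w' = 1 → B a (w * w') = B a w + B a w') →
    (∀ r ∈ normalizer ((S : Subgroup L) : Set L), Odd (orderOf r) → ∀ a ∈ (S : Subgroup L),
      ∀ w ∈ (S : Subgroup L), w * w = 1 → B (r * a * r⁻¹) (r * w * r⁻¹) = B a w) →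
    ∀ a ∈ (S : Subgroup L), ∀ w ∈ (S : Subgroup L), w * w = 1 → B a w = 0
  exists_other : ∃ T : Sylow 2 L, T ≠ S
  torus : ∃ τ ∈ normalizer ((S : Subgroup L) : Set L), Odd (orderOf τ) ∧
    (∀ x y : L, x ∈ (S : Subgroup L) → y ∈ (S : Subgroup L) → orderOf x = 2 → orderOf y = 2 →
      ∃ j : ℕ, τ ^ j * x * (τ ^ j)⁻¹ = y) ∧
    (i = 3 →
      (∀ H : Subgroup L, H ≤ (S : Subgroup L) → (∀ x ∈ (S : Subgroup L), x * x = 1 → x ∈ H) →
        (∀ x ∈ H, τ * x * τ⁻¹ ∈ H) → (∃ x ∈ H, x * x ≠ 1) → H = (S : Subgroup L)) ∧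
      (∃ j : ℕ, τ ^ j ≠ 1 ∧ ∀ x ∈ (S : Subgroup L), orderOf x = 2 → Commute (τ ^ j) x) ∧
      (∀ j : ℕ, τ ^ j ≠ 1 → (∀ x ∈ (S : Subgroup L), orderOf x = 2 → Commute (τ ^ j) x) →
        ∀ x ∈ (S : Subgroup L), Commute (τ ^ j) x → x * x = 1))

/-- A power of the torus element centralises all involutions when `i = 3`. -/
theorem TIData.unitary_elt {L : Type u} [Group L] {S : Sylow 2 L} {n i : ℕ} (d : TIData S n i)
    (hi : i = 3) : ∃ k ∈ normalizer ((S : Subgroup L) : Set L), k ≠ 1 ∧ Odd (orderOf k) ∧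
      ∀ x ∈ (S : Subgroup L), orderOf x = 2 → Commute k x := by
  obtain ⟨τ, hτ, hodd, -, h3⟩ := d.torus
  obtain ⟨-, ⟨j, hj, hc⟩, -⟩ := h3 hi
  exact ⟨τ ^ j, pow_mem hτ j, hj, hodd.of_dvd_nat (orderOf_pow_dvd j), hc⟩

/-- Input: theorem T with its recognition. -/
def TITheorem : Prop :=
  ∀ (G : Type u) [Group G] [Finite G] [IsSimpleGroup G],
    ¬ IsMulCommutative G → CycInt G → TISylow G → KindTI G

/-- Input: the simple groups with Sylow 2-subgroups of type `U₃(4)`. -/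
def UFourTheorem : Prop :=
  ∀ (G : Type u) [Group G] [Finite G] [IsSimpleGroup G] (F : Type) [Field F] [Fintype F],
    Fintype.card F = 16 → ∀ (S : Sylow 2 G) (P : Sylow 2 (Cfsg.PSU 3 F 4)),
      Nonempty ((S : Subgroup G) ≃* (P : Subgroup (Cfsg.PSU 3 F 4))) →
        Nonempty (G ≃* Cfsg.PSU 3 F 4)

/-- Input: the facts on the three families. -/
def KindFacts : Prop :=
  (∀ (L : Type u) [Group L] [Finite L], KindTI L →
    TISylow L ∧ OneClass L ∧ ∀ S : Sylow 2 L, ∃ n i, TIData S n i) ∧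
  (∀ (L : Type u) [Group L] [Finite L], Five L →
    OneClass L ∧ (¬ TISylow L →
      ∀ S : Sylow 2 L, ∀ a ∈ (S : Subgroup L), ∀ b ∈ (S : Subgroup L), a * b = b * a ∧ a * a = 1))

/-- The conclusion of the theorem for a group with its solvable radical. -/
def Goal (G : Type u) [Group G] (R : Subgroup G) [R.Normal] : Prop :=
  ∃ (G₁ : Subgroup G) (_ : G₁.Normal) (_ : (R.subgroupOf G₁).Normal), Odd G₁.index ∧ R ≤ G₁ ∧
    IsSimpleGroup (↥G₁ ⧸ R.subgroupOf G₁) ∧ ¬ IsMulCommutative (↥G₁ ⧸ R.subgroupOf G₁) ∧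
    Five (↥G₁ ⧸ R.subgroupOf G₁)

/-- The induction predicate: simple groups of this kind of order less than `N` are on the list. -/
def SimpleBelow (N : ℕ) : Prop :=
  ∀ (G : Type u) [Group G] [Finite G] [IsSimpleGroup G], Nat.card G < N →
    ¬ IsMulCommutative G → CycInt G → Five G

end Cfsg.Agent.CyclicSylowInter
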