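import Cfsg.Agent.Lib.CyclicSylowInter.Reduction
import Cfsg.Agent.Lib.Coprime.Generation

/-!
# The structure of a nonsolvable centraliser of an involution
-/

set_option autoImplicit false
set_option linter.style.haveILetI false
set_option linter.unusedSectionVars false

namespace Cfsg.Agent.CyclicSylowInter

open Subgroup
open scoped Pointwise commutatorElement
open Cfsg.Agent.ZStar.CyclicIntersections

universe u

variable {G : Type u} [Group G] [Finite G]

/-- Two commuting involutions of `S` whose four-group avoids `t` and commutes with it. -/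
theorem SimpleHyp.exists_pair (hH : SimpleHyp G) (S : Sylow 2 G) {t : G} (ht : orderOf t = 2)
    (htS : t ∈ (S : Subgroup G)) : ∃ a c : G, a ∈ (S : Subgroup G) ∧ c ∈ (S : Subgroup G) ∧
      a * a = 1 ∧ c * c = 1 ∧ Commute a c ∧ Commute t a ∧ Commute t c ∧ a ≠ 1 ∧ c ≠ 1 ∧ a ≠ c ∧
      t ≠ a ∧ t ≠ c ∧ t ≠ a * c := by
  have ht1 : t ≠ 1 := fun h => by rw [h, orderOf_one] at ht; omega
  have htt := mul_self_of_orderOf ht
  obtain ⟨z, z', hzS, hz'S, hz, hz', hzz, hzc, hz'c⟩ := hH.reduced.exists_two_central S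
  have hz1 : z ≠ 1 := fun h => by rw [h, orderOf_one] at hz; omega
  have hz'1 : z' ≠ 1 := fun h => by rw [h, orderOf_one] at hz'; omega
  by_cases htc : ∀ s ∈ (S : Subgroup G), Commute t s
  · by_cases hall : ∀ x ∈ (S : Subgroup G), orderOf x = 2 → ∀ s ∈ (S : Subgroup G), Commute x s
    · have h8 := hH.card_centInv_or S hall
      have hpick : ∀ D : Finset G, D.card ≤ 4 → ∃ v ∈ centInv S, v ∉ D := by
        intro D hD
        by_contra! h
        have h1 : ((centInv S : Subgroup G) : Set G).ncard ≤ (D : Set G).ncard :=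
          Set.ncard_le_ncard (fun v hv => h v hv)
        rw [Set.ncard_coe_finset, ← Nat.card_coe_set_eq] at h1
        exact absurd (h8.trans (h1.trans hD)) (by norm_num)
      classical
      obtain ⟨a, ⟨haS, ha2, hac⟩, ha⟩ := hpick {1, t} (Finset.card_le_two.trans (by norm_num))
      obtain ⟨c, ⟨hcS, hc2, hcc⟩, hc⟩ := hpick {1, t, a, a * t}
        ((Finset.card_insert_le _ _).trans (Nat.add_le_add_right Finset.card_le_three 1))
      simp only [Finset.mem_insert, Finset.mem_singleton, not_or] at ha hc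
      refine ⟨a, c, haS, hcS, ha2, hc2, hac c hcS, htc a haS, htc c hcS, ha.1, hc.1,
        fun e => hc.2.2.1 e.symm, fun e => ha.2 e.symm, fun e => hc.2.1 e.symm, fun e => hc.2.2.2 ?_⟩
      rw [e, ← mul_assoc, ha2, one_mul]
    · push Not at hall
      obtain ⟨w, hwS, hw, s, hsS, hws⟩ := hall
      obtain ⟨a, haS, hao, hac, hat⟩ : ∃ a, a ∈ (S : Subgroup G) ∧ orderOf a = 2 ∧
          (∀ s ∈ (S : Subgroup G), Commute a s) ∧ t ≠ a := by
        by_cases h : t = z
        · exact ⟨z', hz'S, hz', hz'c, h ▸ hzz⟩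
        · exact ⟨z, hzS, hz, hzc, h⟩
      refine ⟨a, w, haS, hwS, mul_self_of_orderOf hao, mul_self_of_orderOf hw, hac w hwS,
        htc a haS, htc w hwS, fun h => by rw [h, orderOf_one] at hao; omega,
        fun h => by rw [h, orderOf_one] at hw; omega,
        fun h => hws (h ▸ hac s hsS), hat, fun h => hws (h ▸ htc s hsS), fun h => hws ?_⟩
      have hw' : w = a * t := by rw [h, ← mul_assoc, mul_self_of_orderOf hao, one_mul]
      rw [hw']
      exact (hac s hsS).mul_left (htc s hsS)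
  · refine ⟨z, z', hzS, hz'S, mul_self_of_orderOf hz, mul_self_of_orderOf hz', hzc z' hz'S,
      (hzc t htS).symm, (hz'c t htS).symm, hz1, hz'1, hzz, ?_, ?_, ?_⟩
    · rintro rfl; exact htc hzc
    · rintro rfl; exact htc hz'c
    · rintro rfl; exact htc fun s hs => (hzc s hs).mul_left (hz'c s hs)

/-- The odd core of the centraliser commutes with the trace of `S`. -/
theorem SimpleHyp.core_comm (hH : SimpleHyp G) (S : Sylow 2 G) {t : G} (ht : orderOf t = 2)
    (htS : t ∈ (S : Subgroup G)) :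
    ∀ o ∈ Cfsg.oddCore ↥(cen t), ∀ p : ↥(cen t), (p : G) ∈ (S : Subgroup G) → Commute o p := by
  haveI := Fact.mk Nat.prime_two
  obtain ⟨a, c, haS, hcS, ha2, hc2, hac, hta, htc, ha1, hc1, hne, ht_a, ht_c, ht_ac⟩ :=
    hH.exists_pair S ht htS
  let a' : ↥(cen t) := ⟨a, mem_cent.2 hta.symm⟩
  let c' : ↥(cen t) := ⟨c, mem_cent.2 htc.symm⟩
  let A := four a' c' (Subtype.ext ha2) (Subtype.ext hc2) (Subtype.ext hac.eq)
  have hmem : ∀ {y : ↥(cen t)}, y ∈ A → y = 1 ∨ y = a' ∨ y = c' ∨ y = a' * c' :=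
    fun hy => mem_four.1 hy
  haveI : IsMulCommutative ↥A := ⟨⟨fun y y' => by
    have h1 : ∀ w : ↥A, w⁻¹ = w := fun w => inv_eq_of_mul_eq_one_right (Subtype.ext (four_sq w.2))
    calc y * y' = (y * y')⁻¹ := (h1 _).symm
      _ = y' * y := by rw [_root_.mul_inv_rev, h1, h1]⟩⟩
  have hncyc : ¬ IsCyclic ↥A := by
    rintro ⟨g, hg⟩
    have hg2 : g * g = 1 := Subtype.ext (four_sq g.2)
    have key : ∀ w : ↥A, w = 1 ∨ w = g := by
      intro w
      obtain ⟨k, rfl⟩ := hg w
      rcases Int.even_or_odd' k with ⟨m, rfl | rfl⟩ <;> beta_reduce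
      · exact Or.inl (by rw [zpow_mul, zpow_two, hg2, one_zpow])
      · exact Or.inr (by rw [zpow_add, zpow_mul, zpow_two, hg2, one_zpow, one_mul, zpow_one])
    have hA' : ∀ w : ↥(cen t), w ∈ A → w ≠ 1 → w = (g : ↥(cen t)) := by
      intro w hw h1
      rcases key ⟨w, hw⟩ with h | h
      · exact absurd (congrArg Subtype.val h) h1
      · exact congrArg Subtype.val h
    have e1 := hA' a' (mem_four.2 (Or.inr (Or.inl rfl))) (fun h => ha1 (congrArg Subtype.val h))
    have e2 := hA' c' (mem_four.2 (Or.inr (Or.inr (Or.inl rfl)))) (fun h => hc1 (congrArg Subtype.val h))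
    exact hne (congrArg Subtype.val (e1.trans e2.symm))
  have hgen := Coprime.fixedGen_eq (A := A) (K := Cfsg.oddCore ↥(cen t)) hncyc
    (by rw [normalizer_eq_top]; exact le_top)
    (PLocal.Cores.coprime_card_of_isPGroup isPGroup_four
      (Nat.coprime_two_right.mpr (Agent.Cores.oddCore_odd (G := ↥(cen t)))))
  have hle : Cfsg.oddCore ↥(cen t) ≤
      (normalizer ((S : Subgroup G) : Set G)).subgroupOf (cen t) := by
    rw [← hgen]
    refine iSup₂_le fun y hy => ?_
    rintro o ⟨-, ho⟩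
    show (o : G) ∈ normalizer ((S : Subgroup G) : Set G)
    have hyo : Commute (o : G) (y : G) := congrArg Subtype.val (mem_cent.1 ho).eq
    obtain ⟨hyS, hyt, hyy⟩ : (y : G) ∈ (S : Subgroup G) ∧ t ≠ (y : G) ∧ (y : G) * y = 1 := by
      refine ⟨?_, ?_, congrArg Subtype.val (four_sq hy.1)⟩
      · rcases hmem hy.1 with rfl | rfl | rfl | rfl
        exacts [one_mem _, haS, hcS, mul_mem haS hcS]
      · rcases hmem hy.1 with rfl | rfl | rfl | rfl
        exacts [absurd rfl hy.2, ht_a, ht_c, ht_ac]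
    have hyo2 : orderOf (y : G) = 2 :=
      orderOf_eq_prime (by rw [pow_two]; exact hyy) fun h => hy.2 (Subtype.ext h)
    have e : ∀ w : G, w ∈ (S : Subgroup G) → Commute (o : G) w →
        w ∈ (((o : G) • S : Sylow 2 G) : Subgroup G) := fun w hw hc => by
      have h := conj_mem_smul (o : G) hw
      rwa [hc.eq, mul_inv_cancel_right] at h
    exact Sylow.smul_eq_iff_mem_normalizer.mp (hH.reduced.cycInt.eq_of_two
      (e t htS (mem_cent.1 o.2)) htS (e _ hyS hyo) hyS ht hyo2 hyt)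
  intro o ho p hp
  have h1 : ⁅o, p⁆ ∈ Cfsg.oddCore ↥(cen t) := by
    rw [commutatorElement_def, show o * p * o⁻¹ * p⁻¹ = o * (p * o⁻¹ * p⁻¹) by group]
    exact mul_mem ho ((inferInstance : (Cfsg.oddCore ↥(cen t)).Normal).conj_mem _ (inv_mem ho) p)
  have h2 : ((⁅o, p⁆ : ↥(cen t)) : G) ∈ (S : Subgroup G) := by
    rw [commutatorElement_def]
    push_cast
    exact mul_mem ((mem_normalizer_iff.mp (hle ho) _).1 hp) (inv_mem hp)
  refine commutatorElement_eq_one_iff_mul_comm.1 ?_
  exact disjoint_def.1 (Coprime.disjoint_of_coprime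
    (PLocal.Cores.coprime_card_of_isPGroup (S.isPGroup'.comap_subtype (K := cen t))
      (Nat.coprime_two_right.mpr (Agent.Cores.oddCore_odd (G := ↥(cen t)))))) h2 h1

/-- In a normal subgroup of odd index lies every 2-subgroup. -/
theorem le_of_odd_index {Q : Type u} [Group Q] [Finite Q] (L : Subgroup Q) [L.Normal]
    (hodd : Odd L.index) {P : Subgroup Q} (hP : IsPGroup 2 P) : P ≤ L := by
  haveI := Fact.mk Nat.prime_two
  rw [← QuotientGroup.ker_mk' L, ← Subgroup.map_eq_bot_iff]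
  refine PLocal.Cores.not_isPGroup_coprime (hP.map _) ?_
  refine Nat.Coprime.coprime_dvd_left (Subgroup.card_subgroup_dvd_card _) ?_
  rw [← index_eq_card]
  exact Nat.coprime_two_right.mpr hodd

/-- Every involution with nonsolvable centraliser has the structure. -/
theorem compExists (hT : TITheorem.{u}) : CompExists.{u} := by
  intro G _ _ hH S t ht htS hns
  haveI := Fact.mk Nat.prime_two
  have ht1 : t ≠ 1 := fun h => by rw [h, orderOf_one] at ht; omega
  set C := cen t with hC'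
  have hC := hH.reduced.cycInt.subgroup C
  obtain ⟨P, hP, -⟩ := hH.reduced.exists_sylow_centralizer S htS
  let π := QuotientGroup.mk' (Cfsg.pPrimePCore 2 ↥C)
  have hπ : Function.Surjective π := QuotientGroup.mk'_surjective _
  have hker : π.ker = Cfsg.pPrimePCore 2 ↥C := QuotientGroup.ker_mk' _
  have hcyc : IsCyclic ↥((P : Subgroup ↥C) ⊓ Cfsg.pPrimePCore 2 ↥C) :=
    isCyclic_inf_pPrimePCore hC hns P
  -- `t` is in every Sylow subgroup and in the kernel
  let t' : ↥C := ⟨t, mem_cent.2 (Commute.refl t)⟩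
  have ht' : orderOf t' = 2 := by rw [← Subgroup.orderOf_coe]; exact ht
  haveI : (zpowers t').Normal := by
    refine ⟨fun a ha c => ?_⟩
    obtain ⟨j, rfl⟩ := mem_zpowers_iff.mp ha
    have hc : Commute c t' := Subtype.ext (mem_cent.mp c.2).eq
    rw [(hc.zpow_right j).eq, mul_assoc, mul_inv_cancel, mul_one]
    exact zpow_mem (mem_zpowers t') j
  have htcore : t' ∈ Cfsg.pCore 2 ↥C :=
    Agent.Cores.le_pCore (IsPGroup.of_card (n := 1) (by rw [Nat.card_zpowers, ht', pow_one]))
      (mem_zpowers t')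
  have htU : t' ∈ Cfsg.pPrimePCore 2 ↥C := PLocal.Cores.pCore_le_pPrimePCore htcore
  have hred : Reduced (↥C ⧸ Cfsg.pPrimePCore 2 ↥C) :=
    reduced_quotient hns hC _ isSolvable_pPrimePCore
      fun M hM hMs => haveI := hM; le_pPrimePCore_of_solvable hC hns M hMs
  obtain ⟨L, hL, hLs, hLne, -⟩ := exists_socle hred
  haveI := hLs
  have hCne : C ≠ ⊤ := hH.reduced.centralizer_ne_top ht1
  have h5 : Five ↥L := hH.below ↥L (lt_of_le_of_lt (L.card_le_card_group.trans
    (Nat.card_le_card_of_surjective π hπ)) (card_lt_of_ne_top hCne)) hLne (hred.cycInt.subgroup L)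
  have hodd := odd_index_socle hH.facts hT hred L hLne h5
  -- a second central involution survives in the quotient and lies in a unique Sylow subgroup
  obtain ⟨z, hzS, hz, hzc, hzt⟩ : ∃ z, z ∈ (S : Subgroup G) ∧ orderOf z = 2 ∧
      (∀ s ∈ (S : Subgroup G), Commute z s) ∧ z ≠ t := by
    obtain ⟨z, z', hzS, hz'S, hz, hz', hzz, hzc, hz'c⟩ := hH.reduced.exists_two_central S
    by_cases h : z = t
    · exact ⟨z', hz'S, hz', hz'c, fun e => hzz (h.trans e.symm)⟩
    · exact ⟨z, hzS, hz, hzc, h⟩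
  let z' : ↥C := ⟨z, mem_cent.2 (hzc t htS)⟩
  have hz' : orderOf z' = 2 := by rw [← Subgroup.orderOf_coe]; exact hz
  have hzP : z' ∈ (P : Subgroup ↥C) := by rw [hP]; exact hzS
  have htP : t' ∈ (P : Subgroup ↥C) := by rw [hP]; exact htS
  have hzU : z' ∉ Cfsg.pPrimePCore 2 ↥C := fun h =>
    hzt (congrArg Subtype.val (eq_of_cyclic hcyc ⟨hzP, h⟩ ⟨htP, htU⟩ hz' ht'))
  have hzbar : orderOf (π z') = 2 := by
    rw [Involutions.Basic.orderOf_two_iff, ← map_mul, mul_self_of_orderOf hz', map_one]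
    exact ⟨rfl, fun h => hzU ((QuotientGroup.eq_one_iff _).1 h)⟩
  have huniq : ∀ U : Sylow 2 (↥C ⧸ Cfsg.pPrimePCore 2 ↥C),
      π z' ∈ (U : Subgroup (↥C ⧸ Cfsg.pPrimePCore 2 ↥C)) → U = P.mapSurjective hπ := by
    intro U hU
    obtain ⟨U₁, hU₁, hmap⟩ := exists_sylow_lift hπ U (D₀ := zpowers z')
      (P.isPGroup'.to_le (zpowers_le.2 hzP)) (zpowers_le.2 hU)
    obtain ⟨T, hT'⟩ := (U₁.isPGroup'.map C.subtype).exists_le_sylow
    have hTS : T = S := hH.reduced.cycInt.eq_of_two
      (hT' ⟨t', Agent.Cores.pCore_le_sylow U₁ htcore, rfl⟩) htS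
      (hT' ⟨z', hU₁ (mem_zpowers z'), rfl⟩) hzS ht hz hzt.symm
    subst hTS
    have hU1P : U₁ = P := by
      refine Sylow.ext (U₁.is_maximal' P.isPGroup' ?_).symm
      rw [hP]
      exact fun a ha => hT' (mem_map_of_mem _ ha)
    refine Sylow.ext ?_
    rw [← hmap, hU1P, Sylow.coe_mapSurjective]
  have hPL : (P : Subgroup ↥C).map π ≤ L := le_of_odd_index L hodd (P.isPGroup'.map π)
  let zL : ↥L := ⟨π z', hPL (mem_map_of_mem π hzP)⟩
  have hzL : orderOf zL = 2 := by rw [← Subgroup.orderOf_coe]; exact hzbar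
  have hzuniq : ∀ T T' : Sylow 2 ↥L, zL ∈ (T : Subgroup ↥L) → zL ∈ (T' : Subgroup ↥L) → T = T' := by
    intro T T' h h'
    have key : ∀ T : Sylow 2 ↥L, zL ∈ (T : Subgroup ↥L) → T = sylowIn (P.mapSurjective hπ) L := by
      intro T h
      obtain ⟨U, hU⟩ := (T.isPGroup'.map L.subtype).exists_le_sylow
      have hUP := huniq U (hU ⟨zL, h, rfl⟩)
      subst hUP
      refine Sylow.ext (T.is_maximal' (sylowIn _ L).isPGroup' fun l hl => ?_).symm
      rw [coe_sylowIn, mem_subgroupOf]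
      exact hU ⟨l, hl, rfl⟩
    rw [key T h, key T' h']
  have hti : TISylow ↥L := by
    intro T T' y hy hyT hyT'
    obtain ⟨l, hl⟩ := isConj_iff.1 ((hH.facts.2 ↥L h5).1 zL y hzL hy)
    have h : ∀ U : Sylow 2 ↥L, y ∈ (U : Subgroup ↥L) → zL ∈ ((l⁻¹ • U : Sylow 2 ↥L) : Subgroup ↥L) :=
      fun U hU => by rw [mem_smul, inv_inv, hl]; exact hU
    exact (smul_left_cancel_iff l⁻¹).1 (hzuniq _ _ (h T hyT) (h T' hyT'))
  have hkind : KindTI ↥L := hT ↥L hLne (hred.cycInt.subgroup L) hti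
  let SL := sylowIn (P.mapSurjective hπ) L
  obtain ⟨n, i, hdata⟩ := (hH.facts.1 ↥L hkind).2.2 SL
  refine ⟨{ ht := ht, htS := htS, nonsolvable := hns, Q := ↥C ⧸ Cfsg.pPrimePCore 2 ↥C, π := π,
            surj := hπ, mem_ker_self := ?_, sylow := ⟨P, hP⟩, core_comm := hH.core_comm S ht htS,
            core_le := ?_, ker_cyclic := ?_, ker_central := ?_, ker_mem := ?_, L := L, normal := hL,
            odd_index := hodd, kind := hkind, ti := hti, SL := SL, map_eq := ?_, n := n, i := i,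
            data := hdata }⟩
  · exact fun _ => (QuotientGroup.eq_one_iff _).2 htU
  · rw [hker]; exact PLocal.Cores.pPrimeCore_le_pPrimePCore
  · rw [hker, ← hP]; exact hcyc
  · intro v hv hvS p hpS
    rw [hker] at hv
    have hnsq : ¬ Group.IsSolvable (↥C ⧸ Cfsg.oddCore ↥C) :=
      not_isSolvable_quotient hns _ isSolvable_oddCore
    have hcentral := central_all _ (↥C ⧸ Cfsg.oddCore ↥C) le_rfl hnsq
      (hC.map (QuotientGroup.mk'_surjective _)) (Agent.Cores.pPrimeCore_quotient_self 2)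
    have h1 : ⁅v, p⁆ ∈ Cfsg.oddCore ↥C := by
      rw [← QuotientGroup.eq_one_iff]
      have hc := Subgroup.mem_center_iff.1 (hcentral (PLocal.Cores.mem_pPrimePCore_iff.1 hv))
        (QuotientGroup.mk' _ p)
      show QuotientGroup.mk' (Cfsg.oddCore ↥C) ⁅v, p⁆ = 1
      rw [map_commutatorElement, commutatorElement_eq_one_iff_mul_comm]
      exact hc.symm
    refine commutatorElement_eq_one_iff_mul_comm.1 (disjoint_def.1 (Coprime.disjoint_of_coprime
      (PLocal.Cores.coprime_card_of_isPGroup P.isPGroup'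
        (Nat.coprime_two_right.mpr (Agent.Cores.oddCore_odd (G := ↥C))))) ?_ h1)
    have hvP : v ∈ (P : Subgroup ↥C) := by rw [hP]; exact hvS
    have hpP : p ∈ (P : Subgroup ↥C) := by rw [hP]; exact hpS
    rw [commutatorElement_def]
    exact mul_mem (mul_mem (mul_mem hvP hpP) (inv_mem hvP)) (inv_mem hpP)
  · intro c hc
    rw [hker] at hc ⊢
    have h1 := Agent.Cores.pCore_le_sylow
      (P.mapSurjective (QuotientGroup.mk'_surjective (Cfsg.oddCore ↥C)))
      (PLocal.Cores.mem_pPrimePCore_iff.1 hc)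
    rw [Sylow.coe_mapSurjective] at h1
    obtain ⟨p, hp, hpc⟩ := h1
    have ho : p⁻¹ * c ∈ Cfsg.oddCore ↥C := (QuotientGroup.eq (s := Cfsg.oddCore ↥C)).1 hpc
    refine ⟨p, ?_, by rw [hP] at hp; exact hp, _, ho, (mul_inv_cancel_left p c).symm⟩
    have hpc' : p = c * (p⁻¹ * c)⁻¹ := by group
    rw [hpc']
    exact mul_mem hc (inv_mem (PLocal.Cores.pPrimeCore_le_pPrimePCore ho))
  · rw [← hP]
    show _ = ((P.mapSurjective hπ : Subgroup _).subgroupOf L).map L.subtype
    rw [subgroupOf_map_subtype, Sylow.coe_mapSurjective, inf_eq_left.2 hPL]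

end Cfsg.Agent.CyclicSylowInter
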