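import Cfsg.Agent.Lib.CyclicSylowInter.CompExists
import Cfsg.Agent.Lib.CIT.SThreeTwo.RankTwo
import Cfsg.Agent.Lib.Involutions.QuasiDihedral
import Cfsg.Agent.Lib.Involutions.Wreathed
import Cfsg.Agent.S0252
import Cfsg.Agent.S0253

/-!
# The simple groups with cyclic Sylow 2-intersections, from the inputs

Rank at most two leaves `L₂(q)`, `q ≡ 3, 5 mod 8`, and `U₃(4)`; otherwise either all involution
centralisers are solvable, and every involution lies in a unique Sylow subgroup, or the group is
the first Janko group.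
-/

set_option autoImplicit false
set_option linter.style.haveILetI false
set_option linter.unusedSectionVars false

namespace Cfsg.Agent.CyclicSylowInter

open Subgroup
open scoped Pointwise
open Cfsg.Agent.ZStar.CyclicIntersections

universe u

/-- The centre of a dihedral group of order at least six has at most one involution. -/
theorem dihedral_central_unique {n : ℕ} (hn : 3 ≤ n) {a c : DihedralGroup n} (ha : a * a = 1)
    (hc : c * c = 1) (ha1 : a ≠ 1) (hc1 : c ≠ 1) (hac : ∀ g, Commute a g)
    (hcc : ∀ g, Commute c g) : a = c := by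
  haveI : NeZero n := ⟨by omega⟩
  have key : ∀ d : DihedralGroup n, d * d = 1 → d ≠ 1 → (∀ g, Commute d g) →
      ∃ i : ZMod n, d = DihedralGroup.r i ∧ i.val + i.val = n := by
    intro d hd hd1 hdc
    cases d with
    | r i =>
      refine ⟨i, rfl, ?_⟩
      rw [DihedralGroup.r_mul_r, DihedralGroup.one_def, DihedralGroup.r.injEq] at hd
      have hi : i.val ≠ 0 := fun h => hd1 (by
        rw [DihedralGroup.one_def, (ZMod.val_eq_zero i).1 h])
      have h2 : (n : ℕ) ∣ i.val + i.val := by
        rw [← CharP.cast_eq_zero_iff (ZMod n) n, Nat.cast_add, ZMod.natCast_zmod_val, hd]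
      obtain ⟨k, hk⟩ := h2
      have hlt := i.val_lt
      rcases k with _ | _ | k
      · omega
      · omega
      · rw [Nat.mul_succ, Nat.mul_succ] at hk; omega
    | sr i =>
      exfalso
      have h := (hdc (DihedralGroup.r 1)).eq
      rw [DihedralGroup.sr_mul_r, DihedralGroup.r_mul_sr, DihedralGroup.sr.injEq] at h
      have h2 : ((2 : ℕ) : ZMod n) = 0 := by push_cast; linear_combination h
      rw [CharP.cast_eq_zero_iff (ZMod n) n] at h2
      have := Nat.le_of_dvd (by norm_num) h2
      omega
  obtain ⟨i, rfl, hi⟩ := key a ha ha1 hac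
  obtain ⟨j, rfl, hj⟩ := key c hc hc1 hcc
  rw [DihedralGroup.r.injEq]
  exact ZMod.val_injective n (by omega)

variable {G : Type u} [Group G] [Finite G]

/-- A Sylow subgroup whose centre has one involution is impossible. -/
theorem Reduced.false_of_central_unique (hG : Reduced G) (S : Sylow 2 G) {P : Type*} [Group P]
    (e : (S : Subgroup G) ≃* P) (hP : ∀ a c : P, a * a = 1 → c * c = 1 → a ≠ 1 → c ≠ 1 →
      (∀ g, Commute a g) → (∀ g, Commute c g) → a = c) : False := by
  obtain ⟨z, z', hzS, hz'S, hz, hz', hne, hzc, hz'c⟩ := hG.exists_two_central S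
  have hsq : ∀ w (hw : w ∈ (S : Subgroup G)), orderOf w = 2 → e ⟨w, hw⟩ * e ⟨w, hw⟩ = 1 ∧
      e ⟨w, hw⟩ ≠ 1 := by
    intro w hw ho
    refine ⟨?_, fun h => ?_⟩
    · rw [← map_mul, ← map_one e]
      exact congrArg e (Subtype.ext (mul_self_of_orderOf ho))
    · rw [MulEquiv.map_eq_one_iff] at h
      have h1 : w = 1 := congrArg Subtype.val h
      rw [h1, orderOf_one] at ho
      omega
  have hcomm : ∀ w (hw : w ∈ (S : Subgroup G)), (∀ s ∈ (S : Subgroup G), Commute w s) →
      ∀ g, Commute (e ⟨w, hw⟩) g := by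
    intro w hw hc g
    obtain ⟨s, rfl⟩ := e.surjective g
    exact (show Commute (⟨w, hw⟩ : (S : Subgroup G)) s from Subtype.ext (hc s s.2).eq).map e.toMonoidHom
  exact hne (congrArg Subtype.val (e.injective (hP _ _ (hsq z hzS hz).1 (hsq z' hz'S hz').1
    (hsq z hzS hz).2 (hsq z' hz'S hz').2 (hcomm z hzS hzc) (hcomm z' hz'S hz'c))))

/-- A simple group of 2-rank at most two of this kind. -/
theorem five_of_rankTwo (hU : UFourTheorem.{u}) [IsSimpleGroup G] (hne : ¬ IsMulCommutative G)
    (hC : CycInt G) (h2 : Cfsg.PRankLE 2 2 G) : Five G := by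
  haveI := Fact.mk Nat.prime_two
  have hG := reduced_of_simple hne hC
  let S : Sylow 2 G := default
  let F := GaloisField 2 4
  haveI : Fintype F := Fintype.ofFinite F
  have hF : Fintype.card F = 16 := by
    rw [← Nat.card_eq_fintype_card, GaloisField.card 2 4 (by norm_num)]; norm_num
  let P : Sylow 2 (Cfsg.PSU 3 F 4) := default
  rcases Cfsg.Agent.S0516.result hne h2 S hF P with ⟨n, hn, ⟨e⟩⟩ | hqd | hw | he
  · rcases Nat.lt_or_ge n 3 with h3 | h3
    · obtain rfl : n = 2 := by omega
      have hcard : Nat.card ↥(S : Subgroup G) = 4 := by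
        rw [Nat.card_congr e.toEquiv, DihedralGroup.nat_card]
      have h8 : ¬ 8 ∣ Nat.card G := by
        intro h
        obtain ⟨K, hK⟩ := Sylow.exists_subgroup_card_pow_prime 2 (n := 3) (G := G) h
        obtain ⟨T, hT⟩ := (IsPGroup.of_card hK).exists_le_sylow
        have h1 := Subgroup.card_le_of_le hT
        rw [hK, Nat.card_congr (Sylow.equiv T S).toEquiv, hcard] at h1
        norm_num at h1
      rcases GW.simpleGW G S 2 le_rfl ⟨e⟩ with ⟨K, iK, jK, hKodd, ⟨φ⟩⟩ | ⟨⟨φ⟩⟩
      · have h3 := CIT.SThreeTwo.three_lt_card hne hKodd φ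
        have hq := Cfsg.Agent.Classical.SmallIso.natCard_pslTwo K
        rw [Cfsg.Agent.Classical.GL2.natCard_SL_two, ← Nat.card_congr φ.toEquiv] at hq
        have hmod : Fintype.card K % 8 = 3 ∨ Fintype.card K % 8 = 5 := by
          by_contra hcon
          apply h8
          set q := Fintype.card K with hqdef
          have hq2 := Nat.odd_iff.1 hKodd
          have h16 : 16 ∣ q * ((q - 1) * (q + 1)) := by
            refine Dvd.dvd.mul_left ?_ q
            obtain ⟨k, hk⟩ : ∃ k, q = 8 * k + 1 ∨ q = 8 * k + 7 := ⟨q / 8, by omega⟩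
            rcases hk with hk | hk
            · exact ⟨k * (4 * k + 1), by rw [hk, Nat.add_sub_cancel]; ring⟩
            · exact ⟨(4 * k + 3) * (k + 1), by rw [hk, show 8 * k + 7 - 1 = 8 * k + 6 by omega]; ring⟩
          have hgcd : Nat.gcd 2 (q - 1) = 2 :=
            Nat.gcd_eq_left (Nat.dvd_of_mod_eq_zero (by omega))
          rw [hgcd] at hq
          omega
        rcases eq_or_ne (Fintype.card K) 5 with h5 | h5
        · let F4 := GaloisField 2 2
          haveI : Fintype F4 := Fintype.ofFinite F4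
          have hF4 : Fintype.card F4 = 2 ^ 2 := by
            rw [← Nat.card_eq_fintype_card, GaloisField.card 2 2 (by norm_num)]
          obtain ⟨f5⟩ := S0253.result h5
          obtain ⟨f4⟩ := S0252.result (F := F4) hF4
          exact Or.inl ⟨2, F4, inferInstance, inferInstance, le_rfl, hF4,
            ⟨(φ.trans f5).trans f4.symm⟩⟩
        · exact Or.inr (Or.inr (Or.inr (Or.inl ⟨K, iK, jK, hmod, by omega, ⟨φ⟩⟩)))
      · exfalso
        apply h8
        rw [Nat.card_congr φ.toEquiv, nat_card_alternatingGroup]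
        simp [Nat.factorial]
    · exact (Reduced.false_of_central_unique hG S e
        fun a c h1 h2 h3' h4 h5 h6 => dihedral_central_unique h3 h1 h2 h3' h4 h5 h6).elim
  · obtain ⟨D⟩ := Involutions.QuasiDihedral.exists_gens hqd
    refine (Reduced.false_of_central_unique hG S (MulEquiv.refl _)
      fun a c _ _ ha hc hac hcc => ?_).elim
    rcases D.eq_center hac with h | h
    · exact absurd h ha
    · rcases D.eq_center hcc with h' | h'
      · exact absurd h' hc
      · rw [h, h']
  · obtain ⟨D⟩ := Involutions.Wreathed.exists_gens hw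
    refine (Reduced.false_of_central_unique hG S (MulEquiv.refl _)
      fun a c ha2 hc2 ha hc hac hcc => ?_).elim
    obtain ⟨i, rfl⟩ := D.eq_central hac
    obtain ⟨j, rfl⟩ := D.eq_central hcc
    rw [D.U_mul_U, D.U_eq_one] at ha2 hc2
    rcases D.add_self.1 ha2.1 with rfl | rfl
    · exact absurd (D.U_eq_one.2 ⟨rfl, rfl⟩) ha
    rcases D.add_self.1 hc2.1 with rfl | rfl
    · exact absurd (D.U_eq_one.2 ⟨rfl, rfl⟩) hc
    rfl
  · have hk : KindTI G := Or.inr (Or.inr ⟨2, F, inferInstance, inferInstance, le_rfl,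
      by rw [hF]; norm_num, hU G F hF S P he⟩)
    exact hk.five

/-- One step of the induction. -/
theorem five_step (hF : KindFacts.{u}) (hT : TITheorem.{u}) (hU : UFourTheorem.{u})
    (hc : CentralBranch.{u}) (hnc : NoncentralBranch.{u}) [IsSimpleGroup G]
    (hne : ¬ IsMulCommutative G) (hC : CycInt G) (hb : SimpleBelow.{u} (Nat.card G)) : Five G := by
  by_cases h2 : Cfsg.PRankLE 2 2 G
  · exact five_of_rankTwo hU hne hC h2
  have hH : SimpleHyp G := ⟨inferInstance, hne, reduced_of_simple hne hC, hF, hb, h2⟩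
  by_cases hall : ∀ x : G, orderOf x = 2 → Group.IsSolvable ↥(cen x)
  · exact (hT G hne hC fun S T x hx hxS hxT =>
      hH.unique_of_solvable S T hx (hall x hx) hxS hxT).five
  push Not at hall
  obtain ⟨x, hx, hxns⟩ := hall
  obtain ⟨S, hxS⟩ := exists_sylow_mem hx
  by_cases hcen : ∀ (T : Sylow 2 G) (z : G), orderOf z = 2 → z ∈ (T : Subgroup G) →
      (∀ s ∈ (T : Subgroup G), Commute z s) → Group.IsSolvable ↥(cen z)
  · obtain ⟨d⟩ := compExists hT G hH S x hx hxS hxns
    exact (hnc G hH hcen (compExists hT) S x d).elim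
  · push Not at hcen
    obtain ⟨T, z, hz, hzT, hzc, hzns⟩ := hcen
    obtain ⟨d⟩ := compExists hT G hH T z hz hzT hzns
    exact Or.inr (Or.inr (Or.inr (Or.inr (hc G hH T z d hzc))))

/-- The simple groups of this kind are on the list. -/
theorem simpleBelow (hF : KindFacts.{u}) (hT : TITheorem.{u}) (hU : UFourTheorem.{u})
    (hc : CentralBranch.{u}) (hnc : NoncentralBranch.{u}) : ∀ N, SimpleBelow.{u} N := by
  intro N
  induction N with
  | zero => intro G _ _ _ h; omega
  | succ N ih =>
    intro G _ _ _ hlt hne hC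
    exact five_step hF hT hU hc hnc hne hC fun H _ _ _ h => ih H (by omega)

/-- The theorem from the inputs. -/
theorem goal_of_inputs (hF : KindFacts.{u}) (hT : TITheorem.{u}) (hU : UFourTheorem.{u})
    (hc : CentralBranch.{u}) (hnc : NoncentralBranch.{u}) (hns : ¬ Group.IsSolvable G)
    (hC : CycInt G) (R : Subgroup G) [R.Normal] (hR : Group.IsSolvable ↥R)
    (hRmax : ∀ N : Subgroup G, N.Normal → Group.IsSolvable ↥N → N ≤ R) : Goal G R :=
  goal_of_below hF hT (simpleBelow hF hT hU hc hnc _) hns hC R hR hRmax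

end Cfsg.Agent.CyclicSylowInter
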