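import Cfsg.Agent.Lib.CyclicSylowInter.Setup
import Cfsg.Agent.Lib.Transfer.Fusion

/-!
# Tools for the simple case

The normalizer of a Sylow 2-subgroup controls fusion, involutions with solvable centraliser lie in
a unique Sylow subgroup, and no subgroup of index two of a Sylow subgroup is normalised by its
normalizer.
-/

set_option autoImplicit false
set_option linter.style.haveILetI false
set_option linter.unusedSectionVars false

namespace Cfsg.Agent.CyclicSylowInter

open Subgroup
open scoped Pointwise commutatorElement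
open Cfsg.Agent.ZStar.CyclicIntersections

universe u

variable {G : Type u} [Group G] [Finite G]

/-- A simple nonabelian group with cyclic intersections is reduced. -/
theorem reduced_of_simple [IsSimpleGroup G] (hne : ¬ IsMulCommutative G) (hC : CycInt G) :
    Reduced G := by
  have hns : ¬ Group.IsSolvable G := fun h => hne
    ⟨⟨fun a b => by
      haveI := h
      exact IsSimpleGroup.comm_iff_isSolvable.2 h a b⟩⟩
  refine ⟨hns, hC, fun N hN hs => ?_⟩
  rcases hN.eq_bot_or_eq_top with e | e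
  · exact e
  · subst e
    haveI := hs
    exact absurd (Group.isSolvable_of_surjective (f := (Subgroup.topEquiv : ↥(⊤ : Subgroup G) ≃* G).toMonoidHom)
      Subgroup.topEquiv.surjective) hns

/-- Fusion in a Sylow subgroup takes place in its normalizer. -/
theorem exists_normalizer_fusion (hG : Reduced G) (S : Sylow 2 G) {x g : G}
    (hx : x ∈ (S : Subgroup G)) (hgx : g * x * g⁻¹ ∈ (S : Subgroup G)) :
    ∃ n ∈ normalizer ((S : Subgroup G) : Set G), n * x * n⁻¹ = g * x * g⁻¹ := by
  haveI := Fact.mk Nat.prime_two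
  set y := g * x * g⁻¹ with hy
  obtain ⟨P, hP, -⟩ := hG.exists_sylow_centralizer S hgx
  obtain ⟨P', hP', -⟩ := hG.exists_sylow_centralizer (g • S) (conj_mem_smul g hx)
  obtain ⟨c, hc⟩ := MulAction.exists_smul_eq ↥(centralizer ({y} : Set G)) P' P
  obtain ⟨z, z', hzS, hz'S, hz, hz', hne, hzc, hz'c⟩ := hG.exists_two_central (g • S)
  have key : ∀ w : G, w ∈ ((g • S : Sylow 2 G) : Subgroup G) → Commute w y →
      (c : G) * w * (c : G)⁻¹ ∈ (S : Subgroup G) ∧
        (c : G) * w * (c : G)⁻¹ ∈ ((((c : G) * g) • S : Sylow 2 G) : Subgroup G) := by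
    intro w hw hwy
    let w' : ↥(centralizer ({y} : Set G)) := ⟨w, mem_cent.2 hwy⟩
    have h1 : w' ∈ (P' : Subgroup ↥(centralizer ({y} : Set G))) := by rw [hP']; exact hw
    have h2 := conj_mem_smul c h1
    rw [hc, hP] at h2
    refine ⟨h2, ?_⟩
    rw [mul_smul]
    exact conj_mem_smul (c : G) hw
  have hgy : y ∈ ((g • S : Sylow 2 G) : Subgroup G) := conj_mem_smul g hx
  obtain ⟨a1, a2⟩ := key z hzS (hzc y hgy)
  obtain ⟨b1, b2⟩ := key z' hz'S (hz'c y hgy)
  have hT : ((c : G) * g) • S = S := hG.cycInt.eq_of_two a2 a1 b2 b1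
    (by rw [Involutions.Basic.orderOf_conj, hz]) (by rw [Involutions.Basic.orderOf_conj, hz'])
    (fun e => hne (mul_left_cancel (mul_right_cancel e)))
  refine ⟨(c : G) * g, Sylow.smul_eq_iff_mem_normalizer.mp hT, ?_⟩
  have hcy : (c : G) * y = y * c := (mem_cent.mp c.2).eq
  calc (c : G) * g * x * ((c : G) * g)⁻¹ = (c : G) * (g * x * g⁻¹) * (c : G)⁻¹ := by group
    _ = y := by
      show (c : G) * y * (c : G)⁻¹ = y
      rw [hcy, mul_inv_cancel_right]

variable (hH : SimpleHyp G)
include hH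

theorem SimpleHyp.card_centInv_or (S : Sylow 2 G)
    (hall : ∀ x ∈ (S : Subgroup G), orderOf x = 2 → ∀ s ∈ (S : Subgroup G), Commute x s) :
    8 ≤ Nat.card ↥(centInv S) := by
  haveI := Fact.mk Nat.prime_two
  obtain ⟨A, -, hA2, hA8⟩ : ∃ A : Subgroup G, IsMulCommutative A ∧ (∀ a ∈ A, a ^ 2 = 1) ∧
      ¬ Nat.card A ≤ 2 ^ 2 := by
    have h := hH.rank
    rw [Cfsg.PRankLE] at h
    push Not at h
    obtain ⟨A, h1, h2, h3⟩ := h
    exact ⟨A, h1, h2, by omega⟩
  have hP : IsPGroup 2 A := fun a => ⟨1, Subtype.ext (by simpa using hA2 a a.2)⟩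
  obtain ⟨T, hT⟩ := hP.exists_le_sylow
  obtain ⟨g, hg⟩ := MulAction.exists_smul_eq G T S
  obtain ⟨k, hk⟩ := IsPGroup.iff_card.1 hP
  have h3 : 3 ≤ k := by
    by_contra h
    exact hA8 (hk ▸ Nat.pow_le_pow_right (by norm_num) (by omega))
  refine le_trans ?_ (Subgroup.card_le_of_le (H := A.map (MulAut.conj g).toMonoidHom) ?_)
  · rw [Subgroup.card_map_of_injective (MulAut.conj g).injective, hk]
    exact le_trans (by norm_num) (Nat.pow_le_pow_right two_pos h3)
  rintro _ ⟨a, ha, rfl⟩
  have hS : g * a * g⁻¹ ∈ (S : Subgroup G) := hg ▸ conj_mem_smul g (hT ha)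
  have hsq : g * a * g⁻¹ * (g * a * g⁻¹) = 1 := by
    rw [show g * a * g⁻¹ * (g * a * g⁻¹) = g * (a * a) * g⁻¹ by group, ← pow_two, hA2 a ha,
      mul_one, mul_inv_cancel]
  refine ⟨hS, hsq, ?_⟩
  by_cases h1 : g * a * g⁻¹ = 1
  · intro s _
    show Commute (g * a * g⁻¹) s
    rw [h1]; exact Commute.one_left s
  · exact hall _ hS (orderOf_eq_prime (by rw [pow_two]; exact hsq) h1)

/-- An involution with solvable centraliser lies in a unique Sylow 2-subgroup. -/
theorem SimpleHyp.unique_of_solvable (S T : Sylow 2 G) {x : G} (hx : orderOf x = 2)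
    (hs : Group.IsSolvable ↥(cen x)) (hxS : x ∈ (S : Subgroup G)) (hxT : x ∈ (T : Subgroup G)) :
    S = T := by
  haveI := Fact.mk Nat.prime_two
  by_contra hne
  by_cases hall : ∀ v ∈ (S : Subgroup G), orderOf v = 2 → ∀ s ∈ (S : Subgroup G), Commute v s
  · have h8 := hH.card_centInv_or S hall
    have hpick : ∀ D : Finset G, D.card ≤ 4 → ∃ v ∈ centInv S, v ∉ D := by
      intro D hD
      by_contra! h
      have h1 : ((centInv S : Subgroup G) : Set G).ncard ≤ (D : Set G).ncard :=
        Set.ncard_le_ncard (fun v hv => h v hv)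
      rw [Set.ncard_coe_finset, ← Nat.card_coe_set_eq] at h1
      exact absurd (h8.trans (h1.trans hD)) (by norm_num)
    classical
    obtain ⟨u, ⟨huS, hu2, huc⟩, hu⟩ := hpick {1, x} (Finset.card_le_two.trans (by norm_num))
    obtain ⟨v, ⟨hvS, hv2, hvc⟩, hv⟩ := hpick {1, x, u, u * x}
      ((Finset.card_insert_le _ _).trans (Nat.add_le_add_right Finset.card_le_three 1))
    simp only [Finset.mem_insert, Finset.mem_singleton, not_or] at hu hv
    refine hH.reduced.not_solvable_centralizer_of_pair (T := T) (fun e => hne e.symm) hx hxS hxT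
      huS hvS (orderOf_eq_prime (by rw [pow_two]; exact hu2) hu.1)
      (orderOf_eq_prime (by rw [pow_two]; exact hv2) hv.1) (huc v hvS) (huc x hxS).symm
      (hvc x hxS).symm (fun e => hv.2.2.1 e.symm) (fun e => hu.2 e.symm) (fun e => hv.2.1 e.symm)
      (fun e => hv.2.2.2 ?_) hs
    rw [e, ← mul_assoc, hu2, one_mul]
  · push Not at hall
    obtain ⟨v, hvS, hv, hvc⟩ := hall
    exact hH.reduced.not_solvable_centralizer (T := T) (fun e => hne e.symm) hx hxS hxT hv hvS
      (fun h => by obtain ⟨s, hs, hns⟩ := hvc; exact hns (h s hs)) hs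

/-- A solvable involution centraliser lies in the Sylow normalizer. -/
theorem SimpleHyp.cen_le_of_solvable (S : Sylow 2 G) {x : G} (hx : orderOf x = 2)
    (hxS : x ∈ (S : Subgroup G)) (hs : Group.IsSolvable ↥(cen x)) :
    cen x ≤ normalizer ((S : Subgroup G) : Set G) := by
  intro g hg
  refine Sylow.smul_eq_iff_mem_normalizer.mp (hH.unique_of_solvable _ _ hx hs ?_ hxS)
  have h := conj_mem_smul g hxS
  rwa [(mem_cent.mp hg).eq, mul_inv_cancel_right] at h

/-- No subgroup of index two of a Sylow subgroup is invariant under its normalizer. -/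
theorem SimpleHyp.no_index_two (S : Sylow 2 G) (M : Subgroup G) (hMS : M ≤ (S : Subgroup G))
    (hnorm : ∀ g ∈ normalizer ((S : Subgroup G) : Set G), ∀ x ∈ M, g * x * g⁻¹ ∈ M) :
    M.relIndex (S : Subgroup G) ≠ 2 := by
  haveI := Fact.mk Nat.prime_two
  intro h2
  have hidx : ((M.subgroupOf (S : Subgroup G))).index = 2 := h2
  have hF : commutator G ⊓ (S : Subgroup G) ≤ M := by
    refine Transfer.Fusion.focal_le_of_fusion S fun x hx g hgx => ?_
    obtain ⟨n, hn, e⟩ := exists_normalizer_fusion hH.reduced S hx hgx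
    refine ⟨n, e, ?_⟩
    have hy : n * x⁻¹ * n⁻¹ ∈ (S : Subgroup G) := (mem_normalizer_iff.mp hn _).1 (inv_mem hx)
    have hiff : n * x⁻¹ * n⁻¹ ∈ M ↔ x ∈ M := by
      constructor
      · intro h
        have h' := hnorm _ (inv_mem hn) _ h
        rw [show n⁻¹ * (n * x⁻¹ * n⁻¹) * n⁻¹⁻¹ = x⁻¹ by group] at h'
        exact inv_mem_iff.1 h'
      · exact fun h => hnorm n hn _ (inv_mem h)
    have h1 := (Subgroup.mul_mem_iff_of_index_two hidx (a := (⟨x, hx⟩ : ↥(S : Subgroup G)))
      (b := ⟨_, hy⟩)).2 (by rw [mem_subgroupOf, mem_subgroupOf]; exact hiff.symm)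
    rw [mem_subgroupOf] at h1
    rw [commutatorElement_def, show x * n * x⁻¹ * n⁻¹ = x * (n * x⁻¹ * n⁻¹) by group]
    exact h1
  haveI := hH.simple
  have hperf : commutator G = ⊤ := by
    rcases (inferInstance : (commutator G).Normal).eq_bot_or_eq_top with e | e
    · exfalso
      refine hH.noncomm ⟨⟨fun a b => ?_⟩⟩
      have h : ⁅a, b⁆ ∈ commutator G := commutator_mem_commutator (mem_top a) (mem_top b)
      rw [e, mem_bot] at h
      exact commutatorElement_eq_one_iff_mul_comm.1 h
    · exact e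
  rw [hperf, top_inf_eq] at hF
  rw [relIndex_eq_one.2 hF] at h2
  exact absurd h2 (by norm_num)

end Cfsg.Agent.CyclicSylowInter
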